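import Cfsg.Agent.Lib.SolvSF.Interface
import Cfsg.Agent.Lib.SolvSF.Mod

/-! Elementary facts about `T0`, the layers and normalised subgroups. -/

set_option autoImplicit false
set_option linter.unusedSectionVars false

namespace CfsgLib.SolvSF

open Cfsg Subgroup CfsgLib.Signalizer
open scoped commutatorElement

universe u
variable {G : Type u} [Group G] [Finite G] {p : ℕ} [Fact p.Prime] {A : Subgroup G} {θ : G → Subgroup G}

theorem T0_le_W {q : ℕ} : T0 p A θ q ≤ W p A θ q := inf_le_left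

theorem T0_le_O {q : ℕ} {K : Subgroup G} (hK : MM p A θ K) (hW : W p A θ q ≤ K) : T0 p A θ q ≤ O q K :=
  inf_le_right.trans (iInf_le (fun K : {K : Subgroup G // MM p A θ K ∧ W p A θ q ≤ K} => O q (K : Subgroup G))
    ⟨K, hK, hW⟩)

theorem normalizes_T0 {q : ℕ} {X : Subgroup G} (hW : X ≤ normalizer (W p A θ q : Set G))
    (hO : ∀ K, MM p A θ K → W p A θ q ≤ K → X ≤ normalizer (O q K : Set G)) :
    X ≤ normalizer (T0 p A θ q : Set G) := fun x hx => Comp.mem_normalizer_of_maps fun y hy => by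
  obtain ⟨hyW, hyO⟩ := hy
  refine ⟨(Subgroup.mem_normalizer_iff.mp (hW hx) y).mp hyW, Subgroup.mem_iInf.mpr fun K => ?_⟩
  exact (Subgroup.mem_normalizer_iff.mp (hO K K.2.1 K.2.2 hx) y).mp (Subgroup.mem_iInf.mp hyO K)

theorem T0_mem (h : Ctx p A θ) {q : ℕ} [Fact q.Prime] : Mem p A θ (T0 p A θ q) :=
  family_sub h.hθ (W_mem h) T0_le_W (normalizes_T0 (mem_normalizes (W_mem h))
    fun _ hK _ => mem_normalizes (O_mem h hK.1))

theorem W_normalizes_T0 (h : Ctx p A θ) {q : ℕ} [Fact q.Prime] :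
    W p A θ q ≤ normalizer (T0 p A θ q : Set G) :=
  normalizes_T0 Subgroup.le_normalizer fun _ _ hW => hW.trans O_normal

theorem dd_normalizes_T0 (h : Ctx p A θ) {q : ℕ} [Fact q.Prime] :
    DD A θ ≤ normalizer (T0 p A θ q : Set G) :=
  normalizes_T0 (W_dd h) fun _ hK _ => hK.2.1.trans O_normal

theorem lay_pow {q t : ℕ} [Fact t.Prime] {K : Subgroup G} {y : G} (hy : y ∈ Lay q t K) :
    ∃ k : ℕ, y ^ t ^ k ∈ O q K := by
  obtain ⟨w, hw, rfl⟩ := hy
  haveI : (pCore q ↥K).Normal := Subgroup.sSup_normal _ (fun _ h => h.1)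
  obtain ⟨k, hk⟩ := isPGroup_pCore t ⟨_, hw⟩
  refine ⟨k, w ^ t ^ k, ?_, by simp⟩
  have h1 : (QuotientGroup.mk' (pCore q ↥K) w) ^ t ^ k = 1 := congrArg Subtype.val hk
  rw [← map_pow] at h1
  exact (QuotientGroup.eq_one_iff _).mp h1

/-- A group of `t`-power exponent modulo `E` is `E` times a Sylow `t`-subgroup. -/
theorem eq_sup_sylow {t : ℕ} [Fact t.Prime] {E P : Subgroup G} (hPE : P ≤ normalizer (E : Set G)) (hEP : E ≤ P)
    (hP : ∀ x ∈ P, ∃ k : ℕ, x ^ t ^ k ∈ E) (S : Sylow t P) : P = E ⊔ (S : Subgroup P).map P.subtype := by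
  haveI : (E.subgroupOf P).Normal := (Subgroup.normal_subgroupOf_iff_le_normalizer hEP).mpr hPE
  set M : Subgroup P := E.subgroupOf P ⊔ (S : Subgroup P) with hM
  have h1 : M.index ∣ (S : Subgroup P).index := Subgroup.index_dvd_of_le le_sup_right
  have h2 : M.index ∣ (E.subgroupOf P).index := Subgroup.index_dvd_of_le le_sup_left
  have hq : IsPGroup t (↥P ⧸ E.subgroupOf P) := by
    intro z
    obtain ⟨⟨x, hx⟩, rfl⟩ := QuotientGroup.mk'_surjective _ z
    obtain ⟨k, hk⟩ := hP x hx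
    refine ⟨k, ?_⟩
    rw [← map_pow]
    refine (QuotientGroup.eq_one_iff _).mpr ?_
    rw [Subgroup.mem_subgroupOf]
    simpa using hk
  obtain ⟨n, hn⟩ := IsPGroup.iff_card.mp hq
  rw [Subgroup.index_eq_card (E.subgroupOf P), hn] at h2
  have hM1 : M.index = 1 := Nat.eq_one_of_dvd_coprimes
    (((Fact.out : t.Prime).coprime_iff_not_dvd.mpr S.not_dvd_index).symm.pow_right n) h1 h2
  have hT : M = ⊤ := Subgroup.index_eq_one.mp hM1
  have h3 := congrArg (Subgroup.map P.subtype) hT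
  rw [hM, Subgroup.map_sup, Subgroup.map_subgroupOf_eq_of_le hEP, ← MonoidHom.range_eq_map,
    Subgroup.range_subtype] at h3
  exact h3.symm

theorem map_le_of_normalizes {X M : Subgroup G} (hX : M ≤ normalizer (X : Set G)) {g : G} (hg : g ∈ M) :
    X.map (MulAut.conj g).toMonoidHom ≤ X := by
  rintro _ ⟨z, hz, rfl⟩
  exact (Subgroup.mem_normalizer_iff.mp (hX hg) z).mp hz

theorem normalizes_of_map_le {X M : Subgroup G} (h : ∀ g ∈ M, X.map (MulAut.conj g).toMonoidHom ≤ X) :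
    M ≤ normalizer (X : Set G) := fun g hg =>
  Comp.mem_normalizer_of_maps fun z hz => h g hg ⟨z, hz, rfl⟩

theorem commutator_normalizes {X P M : Subgroup G} (hX : M ≤ normalizer (X : Set G))
    (hP : M ≤ normalizer (P : Set G)) : M ≤ normalizer ((⁅P, X⁆ : Subgroup G) : Set G) :=
  normalizes_of_map_le fun g hg => by
    rw [Subgroup.map_commutator]
    exact Subgroup.commutator_mono (map_le_of_normalizes hP hg) (map_le_of_normalizes hX hg)

theorem sup_normalizes {X Y M : Subgroup G} (hX : M ≤ normalizer (X : Set G))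
    (hY : M ≤ normalizer (Y : Set G)) : M ≤ normalizer ((X ⊔ Y : Subgroup G) : Set G) :=
  normalizes_of_map_le fun g hg => by
    rw [Subgroup.map_sup]
    exact sup_le_sup (map_le_of_normalizes hX hg) (map_le_of_normalizes hY hg)

theorem inf_normalizes' {X Y M : Subgroup G} (hX : M ≤ normalizer (X : Set G))
    (hY : M ≤ normalizer (Y : Set G)) : M ≤ normalizer ((X ⊓ Y : Subgroup G) : Set G) := fun g hg =>
  Comp.mem_normalizer_of_maps fun z hz =>
    ⟨(Subgroup.mem_normalizer_iff.mp (hX hg) z).mp hz.1, (Subgroup.mem_normalizer_iff.mp (hY hg) z).mp hz.2⟩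

theorem centralizer_normalizes {X M : Subgroup G} (hX : M ≤ normalizer (X : Set G)) :
    M ≤ normalizer (centralizer (X : Set G) : Set G) := fun g hg =>
  Comp.mem_normalizer_of_maps fun z hz x hx => by
    have h1 := hz _ ((Subgroup.mem_normalizer_iff''.mp (hX hg) x).mp hx)
    calc x * (g * z * g⁻¹) = g * ((g⁻¹ * x * g) * z) * g⁻¹ := by group
      _ = g * (z * (g⁻¹ * x * g)) * g⁻¹ := by rw [h1]
      _ = g * z * g⁻¹ * x := by group

theorem mem_of_commutator_left {E : Subgroup G} {y r : G} (h : ⁅y, r⁆ ∈ E) (hr : r ∈ E) : y * r * y⁻¹ ∈ E := by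
  have e : y * r * y⁻¹ = ⁅y, r⁆ * r := by rw [commutatorElement_def]; group
  rw [e]
  exact mul_mem h hr

/-- The elements of `C` whose commutators with `P` lie in `N` form a subgroup normalised by whatever
normalises `C`, `P` and `N`. -/
def comCent (N C P : Subgroup G) (hC : C ≤ normalizer (N : Set G)) : Subgroup G where
  carrier := {r | r ∈ C ∧ ∀ y ∈ P, ⁅y, r⁆ ∈ N}
  one_mem' := ⟨one_mem C, fun y _ => by rw [commutatorElement_one_right]; exact one_mem N⟩
  mul_mem' := by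
    rintro a b ⟨ha, hac⟩ ⟨hb, hbc⟩
    refine ⟨mul_mem ha hb, fun y hy => ?_⟩
    have e : ⁅y, a * b⁆ = ⁅y, a⁆ * (a * ⁅y, b⁆ * a⁻¹) := by simp only [commutatorElement_def]; group
    rw [e]
    exact mul_mem (hac y hy) ((Subgroup.mem_normalizer_iff.mp (hC ha) _).mp (hbc y hy))
  inv_mem' := by
    rintro a ⟨ha, hac⟩
    refine ⟨inv_mem ha, fun y hy => ?_⟩
    have e : ⁅y, a⁻¹⁆ = a⁻¹ * ⁅y, a⁆⁻¹ * a := by simp only [commutatorElement_def]; group
    rw [e]
    exact (Subgroup.mem_normalizer_iff''.mp (hC ha) _).mp (inv_mem (hac y hy))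

theorem comCent_normalizes {N C P M : Subgroup G} (hC : C ≤ normalizer (N : Set G))
    (hMC : M ≤ normalizer (C : Set G)) (hMP : M ≤ normalizer (P : Set G)) (hMN : M ≤ normalizer (N : Set G)) :
    M ≤ normalizer (comCent N C P hC : Set G) := fun g hg =>
  Comp.mem_normalizer_of_maps fun r hr => by
    refine ⟨(Subgroup.mem_normalizer_iff.mp (hMC hg) r).mp hr.1, fun y hy => ?_⟩
    have h1 := hr.2 (g⁻¹ * y * g) ((Subgroup.mem_normalizer_iff''.mp (hMP hg) y).mp hy)
    have h2 := (Subgroup.mem_normalizer_iff.mp (hMN hg) _).mp h1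
    have e : ⁅y, g * r * g⁻¹⁆ = g * ⁅g⁻¹ * y * g, r⁆ * g⁻¹ := by simp only [commutatorElement_def]; group
    rw [e]
    exact h2

theorem commutator_comCent_le {N C P : Subgroup G} (hC : C ≤ normalizer (N : Set G)) :
    ⁅P, comCent N C P hC⁆ ≤ N :=
  Subgroup.commutator_le.mpr fun y hy _ hr => hr.2 y hy

theorem ZOm_pow {q : ℕ} {R : Subgroup G} {z : G} (hz : z ∈ ZOm q R) : z ^ q = 1 := by
  induction hz using Subgroup.closure_induction with
  | mem w hw => exact hw.2
  | one => exact one_pow q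
  | mul a b ha hb iha ihb =>
    have hab : Commute a b := (ZOm_le (q := q) hb).2 a (ZOm_le (q := q) ha).1
    rw [hab.mul_pow, iha, ihb, mul_one]
  | inv a _ iha => rw [inv_pow, iha, inv_one]

theorem ZOm_isElementaryAbelian {q : ℕ} {R : Subgroup G} : IsElementaryAbelian q (ZOm q R) :=
  ⟨⟨⟨fun a b => Subtype.ext ((ZOm_le b.2).2 a (ZOm_le a.2).1)⟩⟩, fun _ hz => ZOm_pow hz⟩

end CfsgLib.SolvSF
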