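import Cfsg.Agent.Lib.SolvSF.LiftLayer.Basic
import Cfsg.Agent.Lib.SolvSF.Amalgam
import Cfsg.Agent.Lib.SolvSF.Offender

/-! A minimal layer subgroup moved by `T0 ⊓ K`: the two cases of the lifting lemma. -/

set_option autoImplicit false
set_option linter.unusedSectionVars false

namespace CfsgLib.SolvSF

open Cfsg Subgroup CfsgLib.Signalizer
open scoped commutatorElement

universe u
variable {G : Type u} [Group G] [Finite G] {p : ℕ} [Fact p.Prime] {A : Subgroup G} {θ : G → Subgroup G}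

/-- `P` is a minimal invariant piece of a layer of `K` moved by `T0 ⊓ K`. -/
structure LSit (p : ℕ) (A : Subgroup G) (θ : G → Subgroup G) (q t : ℕ) (K P : Subgroup G) : Prop where
  hK : MM p A θ K
  hO : O q K ≠ ⊥
  htq : t ≠ q
  hEP : O q K ≤ P
  hPL : P ≤ Lay q t K
  hPA : A ≤ normalizer (P : Set G)
  hPR : W p A θ q ⊓ K ≤ normalizer (P : Set G)
  hPD : DD A θ ≤ normalizer (P : Set G)
  hbad : ¬ ⁅P, T0 p A θ q ⊓ K⁆ ≤ O q K
  small : ∀ Q : Subgroup G, O q K ≤ Q → Q ≤ P → A ≤ normalizer (Q : Set G) →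
    W p A θ q ⊓ K ≤ normalizer (Q : Set G) → DD A θ ≤ normalizer (Q : Set G) → Q ≠ P →
    ⁅Q, T0 p A θ q ⊓ K⁆ ≤ O q K

namespace LSit

variable {q t : ℕ} [Fact q.Prime] [Fact t.Prime] {K P : Subgroup G}

theorem hPK (s : LSit p A θ q t K P) : P ≤ K := s.hPL.trans Lay_le

theorem hPE (s : LSit p A θ q t K P) : P ≤ normalizer (O q K : Set G) := s.hPK.trans O_normal

theorem hRE (_s : LSit p A θ q t K P) : W p A θ q ⊓ K ≤ normalizer (O q K : Set G) := inf_le_right.trans O_normal

theorem hXR (_s : LSit p A θ q t K P) : T0 p A θ q ⊓ K ≤ W p A θ q ⊓ K := inf_le_inf_right _ T0_le_W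

theorem hER (s : LSit p A θ q t K P) (h : Ctx p A θ) : O q K ≤ W p A θ q ⊓ K := le_inf (O_le_W h s.hK) O_le

theorem hRA (s : LSit p A θ q t K P) (h : Ctx p A θ) : A ≤ normalizer ((W p A θ q ⊓ K : Subgroup G) : Set G) :=
  inf_normalizes' (mem_normalizes (W_mem h)) (mem_normalizes s.hK.1)

theorem hRD (s : LSit p A θ q t K P) (h : Ctx p A θ) :
    DD A θ ≤ normalizer ((W p A θ q ⊓ K : Subgroup G) : Set G) :=
  inf_normalizes' (W_dd h) (s.hK.2.1.trans Subgroup.le_normalizer)

theorem hRq (_s : LSit p A θ q t K P) (h : Ctx p A θ) : IsPGroup q (W p A θ q ⊓ K : Subgroup G) :=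
  (W_isPGroup h).to_le inf_le_left

theorem hPt (s : LSit p A θ q t K P) : ∀ x ∈ P, ∃ k : ℕ, x ^ t ^ k ∈ O q K := fun _ hx => lay_pow (s.hPL hx)

theorem hEA (s : LSit p A θ q t K P) (h : Ctx p A θ) : A ≤ normalizer (O q K : Set G) :=
  mem_normalizes (O_mem h s.hK.1)

theorem hPmem (s : LSit p A θ q t K P) (h : Ctx p A θ) : Mem p A θ P := family_sub h.hθ s.hK.1 s.hPK s.hPA

/-- `P` is generated by `E` and its commutators with `T0 ⊓ K`. -/
theorem P_eq (s : LSit p A θ q t K P) (h : Ctx p A θ) : ⁅P, T0 p A θ q ⊓ K⁆ ⊔ O q K = P := by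
  by_contra hne
  have hXP : T0 p A θ q ⊓ K ≤ normalizer (P : Set G) := s.hXR.trans s.hPR
  have hle : ⁅P, T0 p A θ q ⊓ K⁆ ⊔ O q K ≤ P := sup_le (Stabilizer.commutator_le_left_of_normalizes hXP) s.hEP
  have hXA : A ≤ normalizer ((T0 p A θ q ⊓ K : Subgroup G) : Set G) :=
    inf_normalizes' (mem_normalizes (T0_mem h)) (mem_normalizes s.hK.1)
  have hXD : DD A θ ≤ normalizer ((T0 p A θ q ⊓ K : Subgroup G) : Set G) :=
    inf_normalizes' (dd_normalizes_T0 h) (s.hK.2.1.trans Subgroup.le_normalizer)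
  have hXR : W p A θ q ⊓ K ≤ normalizer ((T0 p A θ q ⊓ K : Subgroup G) : Set G) :=
    inf_normalizes' (inf_le_left.trans (W_normalizes_T0 h)) (inf_le_right.trans Subgroup.le_normalizer)
  have hs := s.small _ le_sup_right hle (sup_normalizes (commutator_normalizes hXA s.hPA) (s.hEA h))
    (sup_normalizes (commutator_normalizes hXR s.hPR) s.hRE)
    (sup_normalizes (commutator_normalizes hXD s.hPD) (s.hK.2.1.trans O_normal)) hne
  exact s.hbad (Mod.comm_le_of_comm_comm (Ne.symm s.htq) (s.hXR.trans s.hRE) s.hPE hXP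
    ((s.hRq h).to_le s.hXR) s.hPt ((Subgroup.commutator_mono le_sup_left le_rfl).trans hs))

/-- Elements of `W ⊓ K` centralising `P` modulo a smaller invariant subgroup centralise it modulo `E`. -/
theorem lift_cent (s : LSit p A θ q t K P) (h : Ctx p A θ) {C P₅ : Subgroup G} (hCR : C ≤ W p A θ q ⊓ K)
    (hCA : A ≤ normalizer (C : Set G)) (hCR0 : W p A θ q ⊓ K ≤ normalizer (C : Set G))
    (hCD : DD A θ ≤ normalizer (C : Set G)) (hE5 : O q K ≤ P₅) (h5P : P₅ ≤ P)
    (h5A : A ≤ normalizer (P₅ : Set G)) (h5R : W p A θ q ⊓ K ≤ normalizer (P₅ : Set G))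
    (h5D : DD A θ ≤ normalizer (P₅ : Set G)) (h5ne : P₅ ≠ P) (hPC : ⁅P, C⁆ ≤ P₅) : ⁅P, C⁆ ≤ O q K := by
  set Q : Subgroup G := comCent (O q K) P C s.hPE with hQ
  have hCE : C ≤ normalizer (O q K : Set G) := hCR.trans s.hRE
  by_cases hQP : Q = P
  · refine Subgroup.commutator_le.mpr fun y hy r hr => ?_
    have h1 : y ∈ Q := hQP.symm ▸ hy
    have h2 : ⁅r, y⁆ ∈ O q K := h1.2 r hr
    rw [← inv_mem_iff, commutatorElement_inv]
    exact h2
  exfalso
  refine s.hbad ?_
  have hXE : T0 p A θ q ⊓ K ≤ normalizer (O q K : Set G) := s.hXR.trans s.hRE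
  have hQle : Q ≤ P := fun x hx => hx.1
  have hEQ : O q K ≤ Q := fun e he => ⟨s.hEP he, fun c hc => by
    rw [commutatorElement_def]
    exact mul_mem ((Subgroup.mem_normalizer_iff.mp (hCE hc) e).mp he) (inv_mem he)⟩
  have hs1 := s.small Q hEQ hQle (comCent_normalizes _ s.hPA hCA (s.hEA h))
    (comCent_normalizes _ s.hPR hCR0 s.hRE)
    (comCent_normalizes _ s.hPD hCD (s.hK.2.1.trans O_normal)) hQP
  have hs2 := s.small P₅ hE5 h5P h5A h5R h5D h5ne
  have hdec : P ≤ P₅ ⊔ Q := by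
    refine (Mod.le_commutator_sup (Ne.symm s.htq) hCE s.hPE (hCR.trans s.hPR) ((s.hRq h).to_le hCR) s.hPt
      (P₃ := Q) fun x hx hxc => ⟨hx, fun c hc => ?_⟩).trans ?_
    · have h1 : (x * c * x⁻¹ * c⁻¹)⁻¹ ∈ O q K := inv_mem (hxc c hc)
      simpa [commutatorElement_def, mul_assoc] using h1
    · exact sup_le (sup_le (hPC.trans le_sup_left) le_sup_right) (hEQ.trans le_sup_right)
  rw [Subgroup.commutator_comm]
  refine (Subgroup.commutator_mono le_rfl hdec).trans
    (Mod.comm_le_of_sup hXE (h5P.trans s.hPE) (hQle.trans s.hPE) ?_ ?_)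
  · rw [Subgroup.commutator_comm]; exact hs2
  · rw [Subgroup.commutator_comm]; exact hs1

/-- Case B: `Ω₁Z(W ⊓ K)` moves `P`. -/
theorem caseB (s : LSit p A θ q t K P) (h : Ctx p A θ)
    (hE2 : T0 p A θ q ⊓ K ≤ centralizer (O t K : Set G)) :
    ⁅P, ZOm q (W p A θ q ⊓ K)⁆ ≤ O q K := by
  by_contra hB
  set R0 := W p A θ q ⊓ K with hR0
  set X := T0 p A θ q ⊓ K with hX
  set Z0 := ZOm q R0 with hZ0
  set E := O q K with hE
  have hZ0R : Z0 ≤ R0 := ZOm_le.trans inf_le_left
  have hZ0c : Z0 ≤ centralizer (R0 : Set G) := ZOm_le.trans inf_le_right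
  have hXE : X ≤ normalizer (E : Set G) := s.hXR.trans s.hRE
  have hZE' : Z0 ≤ normalizer (E : Set G) := hZ0R.trans s.hRE
  have hP2 : ⁅P, Z0⁆ ⊔ E = P := by
    by_contra hne
    have hle : ⁅P, Z0⁆ ⊔ E ≤ P := sup_le (Stabilizer.commutator_le_left_of_normalizes (hZ0R.trans s.hPR)) s.hEP
    have hs := s.small _ le_sup_right hle
      (sup_normalizes (commutator_normalizes ((s.hRA h).trans ZOm_normal) s.hPA) (s.hEA h))
      (sup_normalizes (commutator_normalizes (Subgroup.le_normalizer.trans ZOm_normal) s.hPR) s.hRE)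
      (sup_normalizes (commutator_normalizes ((s.hRD h).trans ZOm_normal) s.hPD) (s.hK.2.1.trans O_normal)) hne
    have h1 : ⁅⁅P, Z0⁆, X⁆ ≤ E := (Subgroup.commutator_mono le_sup_left le_rfl).trans hs
    have h2 : ⁅⁅Z0, X⁆, P⁆ ≤ E := by
      rw [commutator_eq_bot_iff_le_centralizer.mpr (hZ0c.trans (centralizer_le s.hXR)), Subgroup.commutator_bot_left]
      exact bot_le
    have hXP : ⁅⁅X, P⁆, Z0⁆ ≤ E := Stabilizer.commutator_commutator_le_of_rotate hXE s.hPE hZE' h1 h2
    refine hB ?_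
    rw [← s.P_eq h, Subgroup.commutator_comm]
    refine Mod.comm_le_of_sup hZE' ((Stabilizer.commutator_le_left_of_normalizes (s.hXR.trans s.hPR)).trans s.hPE)
      Subgroup.le_normalizer ?_ ?_
    · rw [Subgroup.commutator_comm, Subgroup.commutator_comm P]
      exact hXP
    · rw [Subgroup.commutator_comm]; exact Stabilizer.commutator_le_left_of_normalizes hZE'
  have hZE : ⁅Z0, E⁆ = ⊥ :=
    commutator_eq_bot_iff_le_centralizer.mpr (hZ0c.trans (centralizer_le (s.hER h)))
  have hPZc : ⁅P, Z0⁆ ≤ centralizer (E : Set G) := by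
    rw [← commutator_eq_bot_iff_le_centralizer]
    refine Subgroup.commutator_commutator_eq_bot_of_rotate ?_ ?_
    · rw [hZE, Subgroup.commutator_bot_left]
    · rw [eq_bot_iff]
      refine (Subgroup.commutator_mono (Stabilizer.commutator_le_left_of_normalizes s.hPE) le_rfl).trans ?_
      rw [Subgroup.commutator_comm, hZE]
  set C := Lay q t K ⊓ centralizer (E : Set G) with hC
  have hCK : C ≤ K := inf_le_left.trans Lay_le
  have hKC : K ≤ normalizer (C : Set G) := inf_normalizes' Lay_normal (centralizer_normalizes O_normal)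
  have hPsub : P ≤ C ⊔ E := by
    rw [← hP2]
    refine sup_le_sup ?_ le_rfl
    exact le_inf ((Stabilizer.commutator_le_left_of_normalizes (hZ0R.trans s.hPR)).trans s.hPL) hPZc
  haveI hCnil : Group.IsNilpotent C := by
    set M : Subgroup C := E.subgroupOf C
    haveI : M.Normal := Subgroup.normal_subgroupOf_of_le_normalizer (hCK.trans O_normal)
    have hMc : M ≤ Subgroup.center C := fun z hz => Subgroup.mem_center_iff.mpr fun c =>
      Subtype.ext ((c.2.2 z hz).symm)
    have hq : IsPGroup t (C ⧸ M) := by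
      intro z
      obtain ⟨⟨x, hx⟩, rfl⟩ := QuotientGroup.mk'_surjective _ z
      obtain ⟨k, hk⟩ := lay_pow (show x ∈ Lay q t K from hx.1)
      refine ⟨k, ?_⟩
      rw [← map_pow]
      refine (QuotientGroup.eq_one_iff _).mpr ?_
      rw [Subgroup.mem_subgroupOf]
      simpa using hk
    haveI := hq.isNilpotent
    exact Subgroup.isNilpotent_of_ker_le_center (QuotientGroup.mk' M) (by rwa [QuotientGroup.ker_mk'])
  have hCeq : C ≤ O t K ⊔ E := by
    obtain ⟨S⟩ : Nonempty (Sylow t C) := inferInstance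
    haveI hSn : (S : Subgroup C).Normal :=
      Sylow.normal_of_normalizerCondition normalizerCondition_of_isNilpotent S
    haveI : (S : Subgroup C).Characteristic := Sylow.characteristic_of_normal S hSn
    have hSO : (S : Subgroup C).map C.subtype ≤ O t K := by
      refine le_O ((Subgroup.map_subtype_le _).trans hCK) (S.2.map _) fun g hg => ?_
      exact (CfsgLib.le_normalizer_map_characteristic hKC (S : Subgroup C)).1 hg
    have he := eq_sup_sylow (E := C ⊓ E) (P := C) (inf_normalizes' Subgroup.le_normalizer (hCK.trans O_normal))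
      inf_le_left (fun x hx => by
        obtain ⟨k, hk⟩ := lay_pow (show x ∈ Lay q t K from hx.1)
        exact ⟨k, pow_mem hx _, hk⟩) S
    intro c hc
    rw [he] at hc
    exact (sup_le_sup inf_le_right hSO).trans (sup_comm _ _).le hc
  refine s.hbad ?_
  rw [Subgroup.commutator_comm]
  refine (Subgroup.commutator_mono le_rfl (hPsub.trans (sup_le hCeq le_sup_right))).trans
    (Mod.comm_le_of_sup hXE (O_le.trans O_normal) Subgroup.le_normalizer ?_ ?_)
  · rw [commutator_eq_bot_iff_le_centralizer.mpr hE2]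
    exact bot_le
  · rw [Subgroup.commutator_comm]; exact Stabilizer.commutator_le_left_of_normalizes hXE

/-- Case A: a subgroup of `W ⊓ K` normalised by `P` and by the normaliser of `W ⊓ K` in `W`. -/
theorem caseA (s : LSit p A θ q t K P) (h : Ctx p A θ)
    (hB : ⁅P, ZOm q (W p A θ q ⊓ K)⁆ ≤ O q K) :
    ∃ N : Subgroup G, N ≤ W p A θ q ⊓ K ∧ N ≠ ⊥ ∧ P ≤ normalizer (N : Set G) ∧
      A ≤ normalizer (N : Set G) ∧ DD A θ ≤ normalizer (N : Set G) ∧
      W p A θ q ⊓ normalizer ((W p A θ q ⊓ K : Subgroup G) : Set G) ≤ normalizer (N : Set G) := by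
  classical
  set R0 := W p A θ q ⊓ K with hR0
  set Z0 := ZOm q R0 with hZ0
  set E := O q K with hE
  have hR0A : A ≤ normalizer (R0 : Set G) := s.hRA h
  have hR0D : DD A θ ≤ normalizer (R0 : Set G) := s.hRD h
  have hR0ne : R0 ≠ ⊥ := fun e => s.hO (le_bot_iff.mp (e ▸ s.hER h))
  have hZ0R : Z0 ≤ R0 := ZOm_le.trans inf_le_left
  have hZ0c : Z0 ≤ centralizer (R0 : Set G) := ZOm_le.trans inf_le_right
  have hZ01 : Z0 ≠ ⊥ := ZOm_ne_bot (s.hRq h) hR0ne
  have hZ0n : ∀ {M : Subgroup G}, M ≤ normalizer (R0 : Set G) → M ≤ normalizer (Z0 : Set G) :=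
    fun hM => hM.trans ZOm_normal
  have hEZ : E ≤ centralizer (Z0 : Set G) := le_centralizer_iff.mp (hZ0c.trans (centralizer_le (s.hER h)))
  have hPmem := s.hPmem h
  obtain ⟨S, hS⟩ := CfsgLib.coprime_exists_invariant_sylow s.hPA (ea_coprime h.hA hPmem.2.1)
    (Or.inl (ea_solvable h.hA)) t
  set Th := (S : Subgroup P).map P.subtype with hTh
  have hThP : Th ≤ P := Subgroup.map_subtype_le _
  have hPeq : P = E ⊔ Th := eq_sup_sylow s.hPE s.hEP s.hPt S
  by_cases hTZ : Th ≤ centralizer (Z0 : Set G)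
  · refine ⟨Z0, hZ0R, hZ01, ?_, hZ0n hR0A, hZ0n hR0D, hZ0n inf_le_right⟩
    rw [hPeq]
    exact sup_le (hEZ.trans (Comp.centralizer_le_normalizer' Z0))
      (hTZ.trans (Comp.centralizer_le_normalizer' Z0))
  have hTht : IsPGroup t Th := S.2.map _
  have hThmem : Mem p A θ Th := family_sub h.hθ hPmem hThP hS
  have hTh1 : Th ≠ ⊥ := fun e => hTZ (e ▸ bot_le)
  have htp : t ≠ p := by
    rintro rfl
    obtain ⟨m, hm⟩ := IsPGroup.iff_card.mp hTht
    rcases Nat.eq_zero_or_pos m with rfl | hm0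
    · exact hTh1 (Subgroup.card_eq_one.mp (by simpa using hm))
    · exact hThmem.2.1 (hm ▸ dvd_pow_self _ hm0.ne')
  have hqp : q ≠ p := pr_ne_p h (pr_of_O h Fact.out s.hK s.hO)
  have hRE := s.hRE
  set E1 := comCent E R0 P hRE with hE1
  have hE1R : E1 ≤ R0 := fun r hr => hr.1
  have hEE1 : E ≤ E1 := fun e he => ⟨s.hER h he, fun y hy => by
    rw [commutatorElement_def]
    exact mul_mem ((Subgroup.mem_normalizer_iff.mp (s.hPE hy) e).mp he) (inv_mem he)⟩
  have hZE1 : Z0 ≤ E1 := fun z hz => ⟨hZ0R hz, fun y hy => hB (Subgroup.commutator_mem_commutator hy hz)⟩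
  have hPE1 : P ≤ normalizer (E1 : Set G) := fun y hy => Comp.mem_normalizer_of_maps fun r hr => by
    have e : y * r * y⁻¹ = ⁅y, r⁆ * r := by rw [commutatorElement_def]; group
    rw [e]
    exact mul_mem (hEE1 (hr.2 y hy)) hr
  set V : Subgroup G := ⨆ y : P, Z0.map (MulAut.conj (y : G)).toMonoidHom with hV
  have hZV : Z0 ≤ V := fun z hz =>
    le_iSup (fun y : P => Z0.map (MulAut.conj (y : G)).toMonoidHom) (1 : P) ⟨z, hz, by simp⟩
  have hVn : ∀ {M : Subgroup G}, M ≤ normalizer (P : Set G) → M ≤ normalizer (Z0 : Set G) →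
      M ≤ normalizer (V : Set G) := fun {M} hMP hMZ => normalizes_of_map_le fun g hg => by
    rw [hV, Subgroup.map_iSup]
    refine iSup_le fun y => ?_
    rw [Signalizer.map_conj_conj]
    have he : g * (y : G) = (g * y * g⁻¹) * g := by group
    rw [he, ← Signalizer.map_conj_conj]
    exact le_trans (Subgroup.map_mono (map_le_of_normalizes hMZ hg))
      (le_iSup (fun y : P => Z0.map (MulAut.conj (y : G)).toMonoidHom)
        ⟨g * y * g⁻¹, (Subgroup.mem_normalizer_iff.mp (hMP hg) y).mp y.2⟩)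
  have hPV : P ≤ normalizer (V : Set G) := normalizes_of_map_le fun g hg => by
    rw [hV, Subgroup.map_iSup]
    refine iSup_le fun y => ?_
    rw [Signalizer.map_conj_conj]
    exact le_iSup (fun y : P => Z0.map (MulAut.conj (y : G)).toMonoidHom) ⟨g * y, mul_mem hg y.2⟩
  have hab : V ≤ E1 ⊓ centralizer (E1 : Set G) := iSup_le fun y =>
    le_trans (Subgroup.map_mono (le_inf hZE1 (hZ0c.trans (centralizer_le hE1R))))
      (map_le_of_normalizes (inf_normalizes' hPE1 (centralizer_normalizes hPE1)) y.2)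
  have hVq : ∀ v ∈ V, v ^ q = 1 := by
    intro v hv
    induction hv using Subgroup.iSup_induction' with
    | hp y w hw =>
      obtain ⟨z, hz, rfl⟩ := hw
      rw [← map_pow, ZOm_pow hz, map_one]
    | h1 => exact one_pow q
    | hmul a b ha hb iha ihb =>
      have hc : Commute a b := (hab hb).2 a (hab ha).1
      rw [hc.mul_pow, iha, ihb, mul_one]
  have hVea : IsElementaryAbelian q V :=
    ⟨⟨⟨fun a b => Subtype.ext ((hab b.2).2 a (hab a.2).1)⟩⟩, hVq⟩
  have hE1V : E1 ≤ centralizer (V : Set G) := le_centralizer_iff.mp (hab.trans inf_le_right)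
  have hAV := hVn s.hPA (hZ0n hR0A)
  have hRV := hVn s.hPR (hZ0n Subgroup.le_normalizer)
  have hDV := hVn s.hPD (hZ0n hR0D)
  set P5 := P ⊓ centralizer (V : Set G) with hP5
  have hP5ne : P5 ≠ P := fun e =>
    hTZ (hThP.trans ((e.symm.le.trans inf_le_right).trans (centralizer_le hZV)))
  have hRcV : R0 ≤ normalizer (centralizer (V : Set G) : Set G) := centralizer_normalizes hRV
  -- `R0`-elements trivial on `P` modulo `C(V)` lie in `E1`
  have toE1 : comCent (centralizer (V : Set G)) R0 P hRcV ≤ E1 := by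
    intro r hr
    refine ⟨hr.1, fun y hy => ?_⟩
    exact s.lift_cent h (C := comCent (centralizer (V : Set G)) R0 P hRcV) (fun r hr => hr.1)
      (comCent_normalizes _ hR0A s.hPA (centralizer_normalizes hAV))
      (comCent_normalizes _ Subgroup.le_normalizer s.hPR hRcV)
      (comCent_normalizes _ hR0D s.hPD (centralizer_normalizes hDV))
      (le_inf s.hEP (hEE1.trans hE1V)) inf_le_left (inf_normalizes' s.hPA (centralizer_normalizes hAV))
      (inf_normalizes' s.hPR hRcV) (inf_normalizes' s.hPD (centralizer_normalizes hDV)) hP5ne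
      (le_inf (Stabilizer.commutator_le_left_of_normalizes (fun r hr => s.hPR hr.1)) (commutator_comCent_le hRcV))
      (Subgroup.commutator_mem_commutator hy hr)
  have hcV : R0 ⊓ centralizer (V : Set G) ≤ E1 := fun r hr => toE1 ⟨hr.1, fun y hy => by
    rw [commutatorElement_def]
    exact mul_mem ((Subgroup.mem_normalizer_iff.mp (centralizer_normalizes hPV hy) r).mp hr.2) (inv_mem hr.2)⟩
  have hfaith : ∀ r ∈ R0, (∀ x ∈ Th, r * x * r⁻¹ * x⁻¹ ∈ centralizer (V : Set G)) →
      r ∈ centralizer (V : Set G) := by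
    intro r hr hrx
    refine hE1V (toE1 ⟨hr, ?_⟩)
    intro y hy
    have hy' : y ∈ E ⊔ Th := hPeq ▸ hy
    obtain ⟨e, he, x, hx, rfl⟩ := CfsgLib.mem_sup_of_le_normalizer (hThP.trans s.hPE) hy'
    have heV : e ∈ centralizer (V : Set G) := hE1V (hEE1 he)
    have h1 : x * r * x⁻¹ * r⁻¹ ∈ centralizer (V : Set G) := by
      simpa [mul_assoc] using inv_mem (hrx x hx)
    have h3 : r * e⁻¹ * r⁻¹ ∈ centralizer (V : Set G) :=
      (Subgroup.mem_normalizer_iff.mp (hRcV hr) _).mp (inv_mem heV)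
    simpa [commutatorElement_def, mul_assoc] using mul_mem (mul_mem heV h1) h3
  have hoff1 : ∀ B : Subgroup G, B ≤ R0 → IsElementaryAbelian q B → ¬ B ≤ centralizer (V : Set G) →
      Nat.card B * Nat.card (V ⊓ centralizer (B : Set G) : Subgroup G) <
        Nat.card V * Nat.card (B ⊓ centralizer (V : Set G) : Subgroup G) := by
    intro B hBR hBe hBV
    refine offender_in_group (p := p) (A := A) (T := Th) (R := R0) (Ne.symm s.htq) hqp.symm htp.symm h.hA hVea
      (s.hRq h) hTht hAV hRV (hThP.trans hPV) hR0A hS ?_ hfaith ?_ hBR hBe hBV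
    · intro r hr x hx
      have hy : r * x * r⁻¹ ∈ E ⊔ Th := hPeq ▸ (Subgroup.mem_normalizer_iff.mp (s.hPR hr) x).mp (hThP hx)
      obtain ⟨e, he, x', hx', e'⟩ := CfsgLib.mem_sup_of_le_normalizer (hThP.trans s.hPE) hy
      refine ⟨x', hx', ?_⟩
      rw [← e']
      have h1 := (Subgroup.mem_normalizer_iff''.mp (centralizer_normalizes hPV (hThP hx')) e).mp (hE1V (hEE1 he))
      simpa [mul_assoc] using h1
    · exact (inf_centralizer_A_le h hThmem).trans hR0D
  let Kf : ULift.{u} Bool → Subgroup G := fun i =>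
    cond i.down (R0 ⊔ P) (W p A θ q ⊓ normalizer (R0 : Set G))
  let Vf : ULift.{u} Bool → Subgroup G := fun i => cond i.down V Z0
  let Ef : ULift.{u} Bool → Subgroup G := fun i => cond i.down E1 R0
  obtain ⟨N, hNR, hVN, hKN, hgN⟩ := amalgam (q := q) (s.hRq h) Kf Vf Ef
    (by
      rintro ⟨_ | _⟩
      · exact hZ0n inf_le_right
      · exact sup_le hRV hPV)
    (by
      rintro ⟨_ | _⟩
      · exact inf_le_right
      · exact sup_le (comCent_normalizes hRE Subgroup.le_normalizer s.hPR hRE) hPE1)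
    (by
      rintro ⟨_ | _⟩
      · exact hZ0R
      · exact hab.trans inf_le_left)
    (by
      rintro ⟨_ | _⟩
      · exact le_rfl
      · exact hE1R)
    (by
      rintro ⟨_ | _⟩
      · exact ZOm_isElementaryAbelian
      · exact hVea)
    (by
      rintro ⟨_ | _⟩ B hBR _ hBV
      · exact hBR
      · exact le_trans (le_inf hBR hBV) hcV)
    (by
      rintro ⟨_ | _⟩ B hBR hBe hBV
      · exact absurd (hBR.trans (le_centralizer_iff.mp hZ0c)) hBV
      · exact hoff1 B hBR hBe hBV)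
  have hWN : ∀ {M : Subgroup G}, M ≤ normalizer (W p A θ q : Set G) → M ≤ normalizer (R0 : Set G) →
      M ≤ normalizer ((W p A θ q ⊓ normalizer (R0 : Set G) : Subgroup G) : Set G) := fun hW hR =>
    inf_normalizes' hW fun g hg => Subgroup.le_normalizer (hR hg)
  refine ⟨N, hNR, fun e => hZ01 (le_bot_iff.mp (e ▸ hZV.trans (hVN ⟨true⟩))),
    le_sup_right.trans (hKN ⟨true⟩), fun g hg => hgN g ?_, fun g hg => hgN g ?_, hKN ⟨false⟩⟩
  · rintro ⟨_ | _⟩
    · exact ⟨hWN (mem_normalizes (W_mem h)) hR0A hg, hZ0n hR0A hg⟩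
    · exact ⟨sup_normalizes hR0A s.hPA hg, hAV hg⟩
  · rintro ⟨_ | _⟩
    · exact ⟨hWN (W_dd h) hR0D hg, hZ0n hR0D hg⟩
    · exact ⟨sup_normalizes hR0D s.hPD hg, hDV hg⟩

end LSit

end CfsgLib.SolvSF
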